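import Mathlib.RingTheory.Flat.FaithfullyFlat.Algebra
import Mathlib.RingTheory.Filtration
import Mathlib.RingTheory.Nakayama
import Mathlib.RingTheory.Flat.Tensor
import Mathlib.RingTheory.TensorProduct.IsBaseChangeHom
import Mathlib.Algebra.Module.FinitePresentation
import Mathlib.RingTheory.Ideal.Quotient.Operations

/-!
# Zariski pairs with the same completion: approximating maps of modules
-/

set_option autoImplicit false
set_option linter.style.haveILetI false

universe u

open TensorProduct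

namespace Groth.Agent.H10Coh.Zpair

variable {A A' : Type u} [CommRing A] [CommRing A'] [Algebra A A'] [IsNoetherianRing A] [IsNoetherianRing A']
  (J : Ideal A) (hJ : J ≤ (⊥ : Ideal A).jacobson) (hJ' : J.map (algebraMap A A') ≤ (⊥ : Ideal A').jacobson)
  (hq : ∀ n : ℕ, Function.Bijective
    (Ideal.quotientMap (Ideal.map (algebraMap A A') (J ^ n)) (algebraMap A A') Ideal.le_comap_map))

include hq in
omit [IsNoetherianRing A] [IsNoetherianRing A'] in
theorem exists_sub_mem (n : ℕ) (a' : A') :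
    ∃ a : A, a' - algebraMap A A' a ∈ (J.map (algebraMap A A')) ^ n := by
  obtain ⟨x, hx⟩ := (hq n).2 (Ideal.Quotient.mk _ a')
  obtain ⟨a, rfl⟩ := Ideal.Quotient.mk_surjective x
  rw [Ideal.quotientMap_mk] at hx
  exact ⟨a, by rw [← Ideal.map_pow]; exact Ideal.Quotient.eq.1 hx.symm⟩

include hq in
omit [IsNoetherianRing A] [IsNoetherianRing A'] in
theorem mem_of_algebraMap_mem (n : ℕ) {a : A} (h : algebraMap A A' a ∈ (J.map (algebraMap A A')) ^ n) :
    a ∈ J ^ n := by
  rw [← Ideal.map_pow] at h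
  refine Ideal.Quotient.eq_zero_iff_mem.1 ((hq n).1 ?_)
  rw [Ideal.quotientMap_mk, map_zero]
  exact Ideal.Quotient.eq_zero_iff_mem.2 h

omit [IsNoetherianRing A] [IsNoetherianRing A'] in
theorem one_tmul_mem {N : Type u} [AddCommGroup N] [Module A N] (n : ℕ) {x : N}
    (hx : x ∈ J ^ n • (⊤ : Submodule A N)) :
    (1 : A') ⊗ₜ[A] x ∈ (J.map (algebraMap A A')) ^ n • (⊤ : Submodule A' (A' ⊗[A] N)) := by
  induction hx using Submodule.smul_induction_on' with
  | smul r hr y _ =>
    rw [TensorProduct.tmul_smul, ← algebraMap_smul A' r, ← Ideal.map_pow]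
    exact Submodule.smul_mem_smul (Ideal.mem_map_of_mem _ hr) trivial
  | add x _ y _ hx hy => rw [TensorProduct.tmul_add]; exact add_mem hx hy

include hq in
omit [IsNoetherianRing A] [IsNoetherianRing A'] in
theorem exists_tmul_sub_mem (N : Type u) [AddCommGroup N] [Module A N] (n : ℕ) (v : A' ⊗[A] N) :
    ∃ i : N, v - (1 : A') ⊗ₜ i ∈ (J.map (algebraMap A A')) ^ n • (⊤ : Submodule A' (A' ⊗[A] N)) := by
  induction v using TensorProduct.induction_on with
  | zero => exact ⟨0, by simp⟩
  | tmul s i =>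
    obtain ⟨r, hr⟩ := exists_sub_mem J hq n s
    refine ⟨r • i, ?_⟩
    have : s ⊗ₜ[A] i - (1 : A') ⊗ₜ[A] (r • i) = (s - algebraMap A A' r) • ((1 : A') ⊗ₜ[A] i) := by
      rw [TensorProduct.smul_tmul', smul_eq_mul, mul_one, TensorProduct.sub_tmul, ← TensorProduct.smul_tmul,
        Algebra.algebraMap_eq_smul_one]
    rw [this]
    exact Submodule.smul_mem_smul hr trivial
  | add x y hx hy =>
    obtain ⟨i, hi⟩ := hx
    obtain ⟨i', hi'⟩ := hy
    exact ⟨i + i', by rw [TensorProduct.tmul_add, add_sub_add_comm]; exact add_mem hi hi'⟩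

include hq hJ' in
theorem flat : Module.Flat A A' := by
  rw [Module.Flat.iff_rTensor_injective']
  intro I
  let L : A' ⊗[A] I →ₗ[A'] A' := ((Algebra.linearMap A A').comp I.subtype).liftBaseChange A'
  have hLt : ∀ (s : A') (i : I), L (s ⊗ₜ i) = s * algebraMap A A' (i : A) := fun s i => by
    rw [LinearMap.liftBaseChange_tmul, smul_eq_mul]; rfl
  suffices hL : Function.Injective L by
    have e : ∀ z : I ⊗[A] A', TensorProduct.lid A A' (I.subtype.rTensor A' z) = L (TensorProduct.comm A I A' z) := by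
      intro z
      induction z using TensorProduct.induction_on with
      | zero => simp
      | tmul i s => rw [TensorProduct.comm_tmul, hLt]; simp [Algebra.smul_def, mul_comm]
      | add x y hx hy => simp only [map_add, hx, hy]
    intro a b hab
    apply (TensorProduct.comm A I A').injective
    apply hL
    rw [← e, ← e, hab]
  rw [injective_iff_map_eq_zero]
  intro w hw
  obtain ⟨c, hc⟩ := Ideal.exists_pow_inf_eq_pow_smul J (M := A) (I : Submodule A A)
  haveI : Module.Finite A I := Module.Finite.iff_fg.mpr (IsNoetherian.noetherian I)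
  have hall : w ∈ ⨅ N : ℕ, (J.map (algebraMap A A')) ^ N • (⊤ : Submodule A' (A' ⊗[A] I)) := by
    rw [Submodule.mem_iInf]
    intro N
    obtain ⟨i, hi⟩ := exists_tmul_sub_mem J hq I (N + c) w
    have h1 : L (w - (1 : A') ⊗ₜ i) ∈ (J.map (algebraMap A A')) ^ (N + c) • (⊤ : Submodule A' A') := by
      have h2 := Submodule.mem_map_of_mem (f := L) hi
      rw [Submodule.map_smul''] at h2
      exact Submodule.smul_mono le_rfl le_top h2
    rw [map_sub, hw, hLt, one_mul, zero_sub, neg_mem_iff, smul_eq_mul, Ideal.mul_top] at h1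
    have hi2 : (i : A) ∈ J ^ (N + c) := mem_of_algebraMap_mem J hq _ h1
    have hi3 : i ∈ J ^ N • (⊤ : Submodule A I) := by
      have h3 : (i : A) ∈ J ^ (N + c) • (⊤ : Submodule A A) ⊓ I :=
        ⟨by rw [smul_eq_mul, Ideal.mul_top]; exact hi2, i.2⟩
      rw [hc _ (by omega)] at h3
      have h4 : J ^ (N + c - c) • (J ^ c • (⊤ : Submodule A A) ⊓ I) ≤
          Submodule.map I.subtype (J ^ N • (⊤ : Submodule A I)) := by
        rw [Submodule.map_smul'', Submodule.map_top, Submodule.range_subtype, Nat.add_sub_cancel]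
        exact Submodule.smul_mono le_rfl inf_le_right
      obtain ⟨i', hi', he⟩ := h4 h3
      exact Subtype.ext he ▸ hi'
    have h5 : w - (1 : A') ⊗ₜ i ∈ (J.map (algebraMap A A')) ^ N • (⊤ : Submodule A' (A' ⊗[A] I)) :=
      Submodule.smul_mono (Ideal.pow_le_pow_right (by omega)) le_rfl hi
    simpa using add_mem h5 (one_tmul_mem J N hi3)
  rwa [Ideal.iInf_pow_smul_eq_bot_of_le_jacobson _ hJ', Submodule.mem_bot] at hall

include hJ hJ' hq in
theorem faithfullyFlat : Module.FaithfullyFlat A A' := by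
  haveI := flat J hJ' hq
  refine Module.FaithfullyFlat.mk fun m hm h => ?_
  have hJm : J ≤ m := hJ.trans (sInf_le ⟨bot_le, hm⟩)
  have h1 : (1 : A') ∈ m • (⊤ : Submodule A A') := by rw [h]; exact Submodule.mem_top
  rw [Ideal.smul_top_eq_map, Submodule.restrictScalars_mem] at h1
  have h2 : ∀ x ∈ m.map (algebraMap A A'), ∃ a ∈ m, x - algebraMap A A' a ∈ J.map (algebraMap A A') := by
    intro x hx
    refine Submodule.span_induction ?_ ?_ ?_ ?_ hx
    · rintro _ ⟨a, ha, rfl⟩
      exact ⟨a, ha, by rw [sub_self]; exact zero_mem _⟩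
    · exact ⟨0, zero_mem _, by simp⟩
    · rintro x y _ _ ⟨a, ha, hxa⟩ ⟨b, hb, hyb⟩
      exact ⟨a + b, add_mem ha hb, by rw [map_add, add_sub_add_comm]; exact add_mem hxa hyb⟩
    · rintro s x _ ⟨a, ha, hxa⟩
      obtain ⟨r, hr⟩ := exists_sub_mem J hq 1 s
      rw [pow_one] at hr
      refine ⟨r * a, Ideal.mul_mem_left _ _ ha, ?_⟩
      have : s • x - algebraMap A A' (r * a) =
          s * (x - algebraMap A A' a) + algebraMap A A' a * (s - algebraMap A A' r) := by
        rw [smul_eq_mul, map_mul]; ring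
      rw [this]
      exact add_mem (Ideal.mul_mem_left _ _ hxa) (Ideal.mul_mem_left _ _ hr)
  obtain ⟨a, ha, h3⟩ := h2 1 h1
  have h4 : 1 - a ∈ J ^ 1 := mem_of_algebraMap_mem J hq 1 (by rw [pow_one, map_sub, map_one]; exact h3)
  rw [pow_one] at h4
  exact hm.ne_top ((Ideal.eq_top_iff_one _).2 (by simpa using add_mem (hJm h4) ha))

include hq hJ' in
theorem exists_approx {M N : Type u} [AddCommGroup M] [Module A M] [Module.Finite A M]
    [AddCommGroup N] [Module A N] (θ' : A' ⊗[A] M →ₗ[A'] A' ⊗[A] N) (n : ℕ) :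
    ∃ θ : M →ₗ[A] N, LinearMap.range (θ.baseChange A' - θ') ≤
      (J.map (algebraMap A A')) ^ n • (⊤ : Submodule A' (A' ⊗[A] N)) := by
  haveI := flat J hJ' hq
  haveI : Module.FinitePresentation A M := Module.finitePresentation_of_finite A M
  let J' := (J.map (algebraMap A A')) ^ n • (⊤ : Submodule A' (A' ⊗[A] N))
  induction θ' using (Module.FinitePresentation.isBaseChange_map A M N A').inductionOn with
  | zero =>
    refine ⟨0, ?_⟩
    rintro _ ⟨x, rfl⟩
    simp
  | tmul θ =>
    refine ⟨θ, ?_⟩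
    rintro _ ⟨x, rfl⟩
    rw [LinearMap.sub_apply, show LinearMap.baseChangeHom A A' M N θ = θ.baseChange A' from rfl]
    simp
  | smul a' f hf =>
    obtain ⟨θ, hθ⟩ := hf
    obtain ⟨a, ha⟩ := exists_sub_mem J hq n a'
    refine ⟨a • θ, ?_⟩
    rintro _ ⟨x, rfl⟩
    have : ((a • θ).baseChange A' - a' • f) x =
        algebraMap A A' a • (θ.baseChange A' - f) x + -((a' - algebraMap A A' a) • f x) := by
      rw [LinearMap.baseChange_smul]
      simp only [LinearMap.sub_apply, LinearMap.smul_apply, smul_sub, sub_smul, algebraMap_smul]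
      module
    rw [this]
    exact add_mem (J'.smul_mem _ (hθ ⟨x, rfl⟩)) (neg_mem (Submodule.smul_mem_smul ha trivial))
  | add f g hf hg =>
    obtain ⟨θ₁, h₁⟩ := hf
    obtain ⟨θ₂, h₂⟩ := hg
    refine ⟨θ₁ + θ₂, ?_⟩
    rintro _ ⟨x, rfl⟩
    have : ((θ₁ + θ₂).baseChange A' - (f + g)) x = (θ₁.baseChange A' - f) x + (θ₂.baseChange A' - g) x := by
      rw [LinearMap.baseChange_add]
      simp only [LinearMap.sub_apply, LinearMap.add_apply]
      abel
    rw [this]
    exact add_mem (h₁ ⟨x, rfl⟩) (h₂ ⟨x, rfl⟩)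

include hJ hJ' hq in
/-- A map over `A'` with cokernel killed by a power of `I` can be replaced by one over `A`. -/
theorem exists_hom_coker {M N : Type u} [AddCommGroup M] [Module A M] [Module.Finite A M]
    [AddCommGroup N] [Module A N] [Module.Finite A N] (I : Ideal A) (hI : J ≤ I)
    (θ' : A' ⊗[A] M →ₗ[A'] A' ⊗[A] N) {c : ℕ}
    (h : (I.map (algebraMap A A')) ^ c • (⊤ : Submodule A' (A' ⊗[A] N)) ≤ LinearMap.range θ') :
    ∃ θ : M →ₗ[A] N, I ^ c • (⊤ : Submodule A N) ≤ LinearMap.range θ := by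
  haveI := flat J hJ' hq
  haveI := faithfullyFlat J hJ hJ' hq
  obtain ⟨θ, hθ⟩ := exists_approx J hJ' hq θ' (c + 1)
  refine ⟨θ, ?_⟩
  have hd : LinearMap.range (θ.baseChange A' - θ') ≤ J.map (algebraMap A A') • LinearMap.range θ' := by
    refine hθ.trans ?_
    rw [pow_succ', mul_smul]
    exact Submodule.smul_mono le_rfl ((Submodule.smul_mono (Ideal.pow_right_mono (Ideal.map_mono hI) c) le_rfl).trans h)
  have h2 : LinearMap.range θ' ≤ LinearMap.range (θ.baseChange A') ⊔ J.map (algebraMap A A') • LinearMap.range θ' := by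
    rintro _ ⟨x, rfl⟩
    refine Submodule.mem_sup.2 ⟨θ.baseChange A' x, ⟨x, rfl⟩, -((θ.baseChange A' - θ') x), neg_mem (hd ⟨x, rfl⟩), ?_⟩
    simp
  have h3 : LinearMap.range θ' ≤ LinearMap.range (θ.baseChange A') :=
    Submodule.le_of_le_smul_of_le_jacobson_bot (IsNoetherian.noetherian _) hJ' h2
  intro y hy
  have hy' : (1 : A') ⊗ₜ[A] y ∈ LinearMap.range (θ.baseChange A') :=
    (h.trans h3) (one_tmul_mem (A' := A') I c hy)
  obtain ⟨x, hx⟩ := hy'
  let C := N ⧸ LinearMap.range θ
  let q : N →ₗ[A] C := (LinearMap.range θ).mkQ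
  have hzero : (1 : A') ⊗ₜ[A] q y = 0 := by
    rw [← LinearMap.baseChange_tmul, ← hx, ← LinearMap.comp_apply, ← LinearMap.baseChange_comp,
      show q ∘ₗ θ = 0 from LinearMap.ext fun z => (Submodule.Quotient.mk_eq_zero _).2 ⟨z, rfl⟩,
      LinearMap.baseChange_zero, LinearMap.zero_apply]
  refine (Submodule.Quotient.mk_eq_zero _).1 (Module.FaithfullyFlat.tensorProduct_mk_injective (A := A) (B := A') C ?_)
  exact hzero.trans (map_zero _).symm

end Groth.Agent.H10Coh.Zpair
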