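import Groth.Agent.H10Coh.Zpair.Sheaf
import Groth.Agent.H25Par.Rank
import Groth.Agent.H26Gr.GrSub
import Groth.Agent.H16Derived.KFlat.PerfNoeth

/-!
# Vector bundles on the punctured spectrum of a Zariski pair are detected after completion
-/

set_option autoImplicit false
set_option linter.style.haveILetI false
set_option backward.isDefEq.respectTransparency.types false

universe u

open CategoryTheory CategoryTheory.Limits AlgebraicGeometry TopologicalSpace Opposite
open scoped TensorProduct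

namespace Groth.Agent.H10Coh.Zpair

variable {A A' : Type u} [CommRing A] [CommRing A'] [Algebra A A']

theorem exists_baseChange_iso (φ : A →+* A') (U : (Spec (CommRingCat.of A)).Opens) (N : ModuleCat.{u} A) :
    Nonempty ((Scheme.Modules.pullback ((Spec.map (CommRingCat.ofHom φ)) ∣_ U)).obj ((G U).obj N) ≅
      (G ((Spec.map (CommRingCat.ofHom φ)) ⁻¹ᵁ U)).obj
        (letI := φ.toAlgebra; ModuleCat.of A' (A' ⊗[A] N))) := by
  let f : Spec (CommRingCat.of A') ⟶ Spec (CommRingCat.of A) := Spec.map (CommRingCat.ofHom φ)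
  let T := (tilde.functor (CommRingCat.of A)).obj N
  exact ⟨(Scheme.Modules.pullback (f ∣_ U)).mapIso ((Scheme.Modules.restrictFunctorIsoPullback U.ι).app T) ≪≫
    (Scheme.Modules.pullbackComp (f ∣_ U) U.ι).app T ≪≫
    (Scheme.Modules.pullbackCongr (morphismRestrict_ι f U)).app T ≪≫
    ((Scheme.Modules.pullbackComp (f ⁻¹ᵁ U).ι f).app T).symm ≪≫
    ((Scheme.Modules.restrictFunctorIsoPullback (f ⁻¹ᵁ U).ι).app _).symm ≪≫
    (Scheme.Modules.restrictFunctor (f ⁻¹ᵁ U).ι).mapIso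
      ((H17.OmegaAffine.pullbackTildeIso (CommRingCat.ofHom φ)).app N)⟩

theorem smul_top_le_range (I : Ideal A) (k : ℕ) (N : ModuleCat.{u} A) :
    ∀ r ∈ (I.map (algebraMap A A')) ^ k, ∀ z : A' ⊗[A] N,
      r • z ∈ LinearMap.range (((I ^ k • ⊤ : Submodule A N).subtype).baseChange A') := by
  intro r hr z
  rw [← Ideal.map_pow] at hr
  refine Submodule.span_induction (p := fun r _ => r • z ∈ _) ?_ ?_ ?_ ?_ hr
  · rintro _ ⟨a, ha, rfl⟩
    induction z using TensorProduct.induction_on with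
    | zero => rw [smul_zero]; exact zero_mem _
    | tmul s n =>
      refine ⟨s ⊗ₜ ⟨a • n, Submodule.smul_mem_smul ha trivial⟩, ?_⟩
      rw [LinearMap.baseChange_tmul, algebraMap_smul]
      exact TensorProduct.tmul_smul a s n
    | add x y hx hy => rw [smul_add]; exact add_mem hx hy
  · rw [zero_smul]; exact zero_mem _
  · intro x y _ _ hx hy; rw [add_smul]; exact add_mem hx hy
  · intro b x _ hx; rw [smul_assoc]; exact Submodule.smul_mem _ b hx

theorem baseChange_subtype_le (I : Ideal A) (k : ℕ) (N : ModuleCat.{u} A) (x : A' ⊗[A] (I ^ k • ⊤ : Submodule A N)) :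
    ((I ^ k • ⊤ : Submodule A N).subtype).baseChange A' x ∈
      (I.map (algebraMap A A')) ^ k • (⊤ : Submodule A' (A' ⊗[A] N)) := by
  induction x using TensorProduct.induction_on with
  | zero => rw [map_zero]; exact zero_mem _
  | tmul s n =>
    rw [LinearMap.baseChange_tmul, show s ⊗ₜ[A] ((I ^ k • ⊤ : Submodule A N).subtype n) =
      s • ((1 : A') ⊗ₜ[A] (n : N)) by rw [TensorProduct.smul_tmul', smul_eq_mul, mul_one]; rfl]
    exact Submodule.smul_mem _ s (one_tmul_mem (A' := A') I k n.2)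
  | add x y hx hy => rw [map_add]; exact add_mem hx hy

/-- An epimorphism between finite locally free modules of the same rank is an isomorphism. -/
theorem isIso_of_epi_rank {X : Scheme.{u}} [IsLocallyNoetherian X] {r : ℕ} {L M : X.Modules}
    (hL : FlatMod.IsFinLocFreeOfRank r L) (hM : FlatMod.IsFinLocFreeOfRank r M) (s : L ⟶ M) [Epi s] : IsIso s := by
  refine H16Derived.KFlat.Stalk.isIso_of_stalk _ fun x => ?_
  let T := DerSch.stalkFunctor X x
  rw [ConcreteCategory.isIso_iff_bijective]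
  obtain ⟨hf, hfin, hr⟩ := H25Par.finrank_stalk hL x
  obtain ⟨hf', hfin', hr'⟩ := H25Par.finrank_stalk hM x
  haveI := hf
  haveI := hf'
  haveI := hfin
  haveI := hfin'
  let φ : M.presheaf.stalk x ≃ₗ[X.presheaf.stalk x] L.presheaf.stalk x :=
    (Module.finBasisOfFinrankEq (X.presheaf.stalk x) (M.presheaf.stalk x) hr').equiv
      (Module.finBasisOfFinrankEq (X.presheaf.stalk x) (L.presheaf.stalk x) hr) (Equiv.refl _)
  have hs : Function.Surjective (Algz.stalkMapₗ s x) := (ModuleCat.epi_iff_surjective (T.map s)).1 inferInstance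
  exact (Function.Bijective.of_comp_iff' φ.bijective _).1
    (OrzechProperty.bijective_of_surjective_endomorphism (φ.toLinearMap.comp (Algz.stalkMapₗ s x))
      (φ.surjective.comp hs))

variable [IsNoetherianRing A] [IsNoetherianRing A']
omit [Algebra A A'] in
theorem nonempty_iso (φ : A →+* A') (J : Ideal A) (hJ : J ≤ (⊥ : Ideal A).jacobson)
    (hJ' : J.map φ ≤ (⊥ : Ideal A').jacobson)
    (hq : ∀ n : ℕ, Function.Bijective (Ideal.quotientMap (Ideal.map φ (J ^ n)) φ Ideal.le_comap_map))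
    (U : (Spec (CommRingCat.of A)).Opens) (hU : ∀ p : PrimeSpectrum A, ¬ J ≤ p.asIdeal → p ∈ U)
    (n : ℕ) (E₁ E₂ : (U : Scheme.{u}).Modules)
    (h₁ : FlatMod.IsFinLocFreeOfRank n E₁) (h₂ : FlatMod.IsFinLocFreeOfRank n E₂)
    (hiso : Nonempty ((Scheme.Modules.pullback ((Spec.map (CommRingCat.ofHom φ)) ∣_ U)).obj E₁ ≅
      (Scheme.Modules.pullback ((Spec.map (CommRingCat.ofHom φ)) ∣_ U)).obj E₂)) :
    Nonempty (E₁ ≅ E₂) := by
  letI := φ.toAlgebra
  haveI : IsNoetherianRing (CommRingCat.of A) := inferInstanceAs (IsNoetherianRing A)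
  haveI : IsNoetherianRing (CommRingCat.of A') := inferInstanceAs (IsNoetherianRing A')
  haveI : IsLocallyNoetherian (U : Scheme.{u}) := inferInstance
  have hc : ∀ {E : (U : Scheme.{u}).Modules}, FlatMod.IsFinLocFreeOfRank n E → Coh.IsCoh E := fun {E} h =>
    H16Derived.KFlat.Stalk.isCoh_of_isFinLocFree fun x => ⟨_, n, (h x).choose_spec⟩
  obtain ⟨N₁, hN₁, ⟨e₁⟩⟩ := exists_finite_tilde_restrict U E₁ (hc h₁)
  obtain ⟨N₂, hN₂, ⟨e₂⟩⟩ := exists_finite_tilde_restrict U E₂ (hc h₂)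
  haveI := hN₁
  haveI := hN₂
  obtain ⟨e⟩ := hiso
  obtain ⟨b₁⟩ := exists_baseChange_iso φ U N₁
  obtain ⟨b₂⟩ := exists_baseChange_iso φ U N₂
  let f : Spec (CommRingCat.of A') ⟶ Spec (CommRingCat.of A) := Spec.map (CommRingCat.ofHom (algebraMap A A'))
  let I : Ideal A := PrimeSpectrum.vanishingIdeal (U.1 : Set (PrimeSpectrum A))ᶜ
  have hVI : ∀ p : PrimeSpectrum A, (p : Spec (CommRingCat.of A)) ∈ U ↔ ¬ I ≤ p.asIdeal := fun p => by
    have h : PrimeSpectrum.zeroLocus (I : Set A) = (U.1 : Set (PrimeSpectrum A))ᶜ :=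
      (PrimeSpectrum.zeroLocus_vanishingIdeal_eq_closure _).trans (closure_eq_iff_isClosed.2 U.2.isClosed_compl)
    have h' : p ∈ PrimeSpectrum.zeroLocus (I : Set A) ↔ p ∉ (U.1 : Set (PrimeSpectrum A)) := by rw [h]; rfl
    rw [PrimeSpectrum.mem_zeroLocus, SetLike.coe_subset_coe] at h'
    exact ⟨fun hp hI => h'.1 hI hp, fun hI => not_not.1 fun hp => hI (h'.2 hp)⟩
  have hJI : J ≤ I := by
    rw [← PrimeSpectrum.subset_zeroLocus_iff_le_vanishingIdeal]
    exact fun p hp => not_not.1 fun h => hp (hU p h)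
  have hVI' : ∀ q : PrimeSpectrum A', (q : Spec (CommRingCat.of A')) ∈ f ⁻¹ᵁ U ↔
      ¬ I.map (algebraMap A A') ≤ q.asIdeal := fun q => by
    rw [Ideal.map_le_iff_le_comap]
    exact hVI _
  haveI : Module.Finite (CommRingCat.of A') (ModuleCat.of A' (A' ⊗[A] N₁) : ModuleCat.{u} A') :=
    inferInstanceAs (Module.Finite A' (A' ⊗[A] N₁))
  haveI : Module.Finite (CommRingCat.of A') (ModuleCat.of A' (A' ⊗[A] N₂) : ModuleCat.{u} A') :=
    inferInstanceAs (Module.Finite A' (A' ⊗[A] N₂))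
  let e' := b₁.symm ≪≫ ((Scheme.Modules.pullback (f ∣_ U)).mapIso e₁.symm ≪≫ e ≪≫
    (Scheme.Modules.pullback (f ∣_ U)).mapIso e₂) ≪≫ b₂
  obtain ⟨k, c, θ', hθ'⟩ := exists_map_of_iso (f ⁻¹ᵁ U) (I.map (algebraMap A A')) hVI' e'
  let M₁ : Submodule A N₁ := I ^ k • ⊤
  haveI : Module.Finite A M₁ := Module.Finite.iff_fg.2 (IsNoetherian.noetherian M₁)
  let θ'' : A' ⊗[A] M₁ →ₗ[A'] A' ⊗[A] N₂ :=
    θ' ∘ₗ (M₁.subtype.baseChange A').codRestrict _ (baseChange_subtype_le I k N₁)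
  have hθ'' : (I.map (algebraMap A A')) ^ (k + c) • (⊤ : Submodule A' (A' ⊗[A] N₂)) ≤ LinearMap.range θ'' := by
    rw [pow_add, mul_smul]
    refine Submodule.smul_le.2 fun r hr y hy => ?_
    obtain ⟨x, rfl⟩ := hθ' hy
    obtain ⟨w, hw⟩ := smul_top_le_range I k N₁ r hr x.1
    refine ⟨w, ?_⟩
    show θ' _ = r • θ' x
    rw [← map_smul]
    exact congrArg θ' (Subtype.ext hw)
  obtain ⟨θ, hθ⟩ := exists_hom_coker J hJ hJ' hq I hJI θ'' hθ''
  let i : ModuleCat.of A M₁ ⟶ N₁ := ModuleCat.ofHom M₁.subtype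
  let t : ModuleCat.of A M₁ ⟶ N₂ := ModuleCat.ofHom θ
  haveI : Epi ((G U).map i) := epi_G_map U I hVI i (c := k) (by
    show I ^ k • (⊤ : Submodule A N₁) ≤ LinearMap.range M₁.subtype
    rw [Submodule.range_subtype])
  haveI : Epi ((G U).map t) := epi_G_map U I hVI t hθ
  haveI : Mono ((G U).map i) := mono_G_map U i M₁.injective_subtype
  haveI : IsIso ((G U).map i) := isIso_of_mono_of_epi _
  let s : (G U).obj N₁ ⟶ (G U).obj N₂ := inv ((G U).map i) ≫ (G U).map t
  have hs : Epi s := epi_comp' (IsIso.epi_of_iso _) inferInstance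
  have hs' : IsIso s := @isIso_of_epi_rank (U : Scheme.{u}) _ n _ _
    (H26Gr.isFinLocFreeOfRank_of_iso e₁ h₁) (H26Gr.isFinLocFreeOfRank_of_iso e₂ h₂) s hs
  exact ⟨e₁ ≪≫ @asIso _ _ _ _ s hs' ≪≫ e₂.symm⟩

end Groth.Agent.H10Coh.Zpair
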