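import Groth.Agent.H10Coh.Zpair.Alg
import Groth.Agent.H10Coh.OpenSpec
import Groth.Agent.H10Coh.TildeExact
import Groth.Agent.H17.OmegaAffine
import Groth.Agent.H17.OmegaBij
import Groth.Agent.LeadHom.Torsion

/-!
# Modules on an open of an affine scheme and powers of the ideal of its complement
-/

set_option autoImplicit false
set_option linter.style.haveILetI false
set_option backward.isDefEq.respectTransparency.types false

universe u

open CategoryTheory CategoryTheory.Limits AlgebraicGeometry TopologicalSpace Opposite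

namespace Groth.Agent.H10Coh.Zpair

variable {R : CommRingCat.{u}} (V : (Spec R).Opens) (I : Ideal R)
  (hVI : ∀ p : PrimeSpectrum R, (p : Spec R) ∈ V ↔ ¬ I ≤ p.asIdeal)

/-- `N ↦ N~|_V`. -/
noncomputable abbrev G : ModuleCat.{u} R ⥤ (V : Scheme.{u}).Modules :=
  tilde.functor R ⋙ Scheme.Modules.restrictFunctor V.ι

include hVI in
theorem isZero_G_obj (C : ModuleCat.{u} R) {c : ℕ} (h : ∀ r ∈ I ^ c, ∀ x : C, r • x = 0) :
    IsZero ((G V).obj C) := by
  refine restrict_subsingleton _ fun y hy O hyO s => ?_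
  obtain ⟨a, haI, hay⟩ := SetLike.not_le_iff_exists.1 ((hVI y).1 hy)
  let t : (tilde C).presheaf.stalk y := (tilde C).presheaf.germ O y hyO s
  show t = 0
  obtain ⟨⟨e, w⟩, hw⟩ := IsLocalizedModule.surj y.asIdeal.primeCompl (tilde.toStalk C y).hom t
  let a' : y.asIdeal.primeCompl := ⟨a ^ c, fun hc => hay (y.isPrime.mem_of_pow_mem c hc)⟩
  have he : (a ^ c) • e = 0 := h _ (Ideal.pow_mem_pow haI c) e
  have h1 : (a' * w) • t = 0 := by
    rw [mul_smul]
    refine (congrArg (fun z => a' • z) hw).trans ?_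
    exact ((tilde.toStalk C y).hom.map_smul (a ^ c) e).symm.trans ((congrArg _ he).trans (map_zero _))
  exact IsLocalizedModule.smul_injective (tilde.toStalk C y).hom _ (h1.trans (smul_zero _).symm)

include hVI in
theorem exists_pow_of_isZero [IsNoetherianRing R] (C : ModuleCat.{u} R) [Module.Finite R C]
    (h : IsZero ((G V).obj C)) : ∃ c : ℕ, I ^ c ≤ Module.annihilator R C := by
  refine Ideal.exists_pow_le_of_le_radical_of_fg ?_ (IsNoetherian.noetherian I)
  rw [← PrimeSpectrum.zeroLocus_subset_zeroLocus_iff, ← Module.support_eq_zeroLocus]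
  intro p hp
  by_contra hpI
  obtain ⟨e, he⟩ := Module.mem_support_iff'.1 hp
  have hpV : (p : Spec R) ∈ V := (hVI p).2 hpI
  let q : (V : Scheme.{u}) := ⟨p, hpV⟩
  have h' : IsZero ((Scheme.Modules.restrictFunctor V.ι).obj (tilde C)) := h
  have hz := (Scheme.Modules.toPresheaf (V : Scheme.{u}) ⋙ TopCat.Presheaf.stalkFunctor Ab.{u} q).map_isZero h'
  have hz' := hz.of_iso ((Scheme.Modules.restrictStalkNatIso V.ι q).app (tilde C)).symm
  have hs : Subsingleton ((tilde C).presheaf.stalk p) := AddCommGrpCat.subsingleton_of_isZero hz'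
  obtain ⟨s, hs'⟩ := (IsLocalizedModule.eq_zero_iff p.asIdeal.primeCompl (tilde.toStalk C p).hom).1
    (Subsingleton.elim ((tilde.toStalk C p).hom e) 0)
  exact he s.1 s.2 hs'

include hVI in
theorem epi_G_map {M N : ModuleCat.{u} R} (t : M ⟶ N) {c : ℕ}
    (h : I ^ c • (⊤ : Submodule R N) ≤ LinearMap.range t.hom) : Epi ((G V).map t) := by
  have hz : IsZero ((G V).obj (cokernel t)) := by
    refine (isZero_G_obj V I hVI (ModuleCat.of R (N ⧸ LinearMap.range t.hom)) (c := c) fun r hr x => ?_).of_iso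
      ((G V).mapIso (ModuleCat.cokernelIsoRangeQuotient t))
    obtain ⟨x, rfl⟩ := Submodule.Quotient.mk_surjective _ x
    exact (Submodule.Quotient.mk_smul _ r x).symm.trans
      ((Submodule.Quotient.mk_eq_zero _).2 (h (Submodule.smul_mem_smul hr trivial)))
  exact Preadditive.epi_of_cokernel_zero ((hz.of_iso (PreservesCokernel.iso (G V) t).symm).eq_of_tgt _ _)

include hVI in
theorem exists_pow_of_epi [IsNoetherianRing R] {M N : ModuleCat.{u} R} [Module.Finite R N] (t : M ⟶ N)
    [Epi ((G V).map t)] : ∃ c : ℕ, I ^ c • (⊤ : Submodule R N) ≤ LinearMap.range t.hom := by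
  haveI : Module.Finite R (ModuleCat.of R (N ⧸ LinearMap.range t.hom)) :=
    inferInstanceAs (Module.Finite R (N ⧸ LinearMap.range t.hom))
  have hz : IsZero ((G V).obj (ModuleCat.of R (N ⧸ LinearMap.range t.hom))) :=
    ((isZero_cokernel_of_epi ((G V).map t)).of_iso (PreservesCokernel.iso (G V) t)).of_iso
      ((G V).mapIso (ModuleCat.cokernelIsoRangeQuotient t).symm)
  obtain ⟨c, hc⟩ := exists_pow_of_isZero V I hVI _ hz
  refine ⟨c, Submodule.smul_le.2 fun r hr x _ => (Submodule.Quotient.mk_eq_zero _).1 ?_⟩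
  exact (Submodule.Quotient.mk_smul _ r x).trans (Module.mem_annihilator.1 (hc hr) (Submodule.Quotient.mk x))

theorem mono_G_map {M N : ModuleCat.{u} R} (f : M ⟶ N) (hf : Function.Injective f.hom) : Mono ((G V).map f) := by
  haveI : Mono f := (ModuleCat.mono_iff_injective f).2 hf
  haveI : Mono ((tilde.functor R).map f) := mono_tilde_map f
  exact inferInstanceAs (Mono ((Scheme.Modules.restrictFunctor V.ι).map ((tilde.functor R).map f)))

include hVI in
theorem exists_map_of_iso [IsNoetherianRing R] {N₁ N₂ : ModuleCat.{u} R} [Module.Finite R N₁]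
    [Module.Finite R N₂] (e : (G V).obj N₁ ≅ (G V).obj N₂) :
    ∃ (k c : ℕ) (θ : (I ^ k • ⊤ : Submodule R N₁) →ₗ[R] N₂),
      I ^ c • (⊤ : Submodule R N₂) ≤ LinearMap.range θ := by
  obtain ⟨F', ι, φ', hm, hF', hiso, hφ⟩ := LeadHom.exists_extension_hom ((tilde.functor R).obj N₁) ((tilde.functor R).obj N₂)
    (isCoh_tilde N₁) (isCoh_tilde N₂) V e.hom
  haveI := hm
  obtain ⟨P, ⟨eP⟩⟩ := H17.OmegaBij.exists_tilde_iso R F' hF'.1
  let i : P ⟶ N₁ := (tilde.functor R).preimage (eP.inv ≫ ι)
  let t : P ⟶ N₂ := (tilde.functor R).preimage (eP.inv ≫ φ')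
  have hi : (tilde.functor R).map i = eP.inv ≫ ι := Functor.map_preimage _ _
  have ht : (tilde.functor R).map t = eP.inv ≫ φ' := Functor.map_preimage _ _
  haveI : Mono ((tilde.functor R).map i) := by rw [hi]; infer_instance
  haveI : Mono i := (tilde.functor R).mono_of_mono_map inferInstance
  have hinj : Function.Injective i.hom := (ModuleCat.mono_iff_injective i).1 inferInstance
  haveI := hiso
  haveI : Epi ((G V).map i) := by
    show Epi ((Scheme.Modules.restrictFunctor V.ι).map ((tilde.functor R).map i))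
    rw [hi, Functor.map_comp]
    infer_instance
  haveI : Epi ((G V).map t) := by
    show Epi ((Scheme.Modules.restrictFunctor V.ι).map ((tilde.functor R).map t))
    rw [ht, Functor.map_comp, hφ]
    exact epi_comp' (IsIso.epi_of_iso _) (epi_comp' (IsIso.epi_of_iso _) (IsIso.epi_of_iso _))
  obtain ⟨k, hk⟩ := exists_pow_of_epi V I hVI i
  obtain ⟨c, hc⟩ := exists_pow_of_epi V I hVI t
  let E := LinearEquiv.ofInjective i.hom hinj
  let θ : (I ^ k • ⊤ : Submodule R N₁) →ₗ[R] N₂ := t.hom ∘ₗ E.symm.toLinearMap ∘ₗ Submodule.inclusion hk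
  refine ⟨k, k + c, θ, ?_⟩
  rw [pow_add, mul_smul]
  refine Submodule.smul_le.2 fun r hr y hy => ?_
  obtain ⟨p, rfl⟩ := hc hy
  refine ⟨⟨r • i.hom p, Submodule.smul_mem_smul hr trivial⟩, ?_⟩
  show t.hom (E.symm ⟨r • i.hom p, _⟩) = r • t.hom p
  rw [show E.symm ⟨r • i.hom p, hk (Submodule.smul_mem_smul hr trivial)⟩ = r • p from
    E.injective (by rw [LinearEquiv.apply_symm_apply]; exact Subtype.ext (map_smul i.hom r p).symm), map_smul]

end Groth.Agent.H10Coh.Zpair
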